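import Mathlib
import Cfsg.Agent.Classical.AltForm

/-!
Symplectic frames adapted to an endomorphism whose square is a scalar and which scales the form, in odd characteristic.
-/

set_option autoImplicit false
set_option linter.unusedSectionVars false

namespace Cfsg.Agent.SkewStruct

open Module Cfsg.Agent.Classical

variable {F V : Type*} [Field F] [AddCommGroup V] [Module F V]

/-- A symplectic frame. -/
structure Frame (B : LinearMap.BilinForm F V) {k : ℕ} (e f : Fin k → V) : Prop where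
  ee : ∀ i j, B (e i) (e j) = 0
  ff : ∀ i j, B (f i) (f j) = 0
  ef : ∀ i j, B (e i) (f j) = if i = j then 1 else 0

variable {B : LinearMap.BilinForm F V}

theorem Frame.fe (hA : B.IsAlt) {k : ℕ} {e f : Fin k → V} (hb : Frame B e f) (i j : Fin k) :
    B (f i) (e j) = if j = i then -1 else 0 := by
  rw [Alt.neg' hA, hb.ef]
  split_ifs <;> simp

theorem Frame.pair (hA : B.IsAlt) {k : ℕ} {e f : Fin k → V} (hb : Frame B e f) (a b a' b' : Fin k → F) :
    B (∑ i, a i • e i + ∑ i, b i • f i) (∑ i, a' i • e i + ∑ i, b' i • f i) = ∑ i, (a i * b' i - b i * a' i) := by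
  simp only [map_add, map_sum, map_smul, LinearMap.add_apply, LinearMap.sum_apply, LinearMap.smul_apply, smul_eq_mul,
    hb.ee, hb.ff, hb.ef, hb.fe hA, mul_zero, Finset.sum_const_zero, zero_add, add_zero, mul_ite, Finset.sum_ite_eq,
    Finset.sum_ite_eq', Finset.mem_univ, if_true]
  simp only [← Finset.sum_add_distrib]
  exact Finset.sum_congr rfl fun i _ => by ring

theorem Frame.left (hA : B.IsAlt) {k : ℕ} {e f : Fin k → V} (hb : Frame B e f) (a b : Fin k → F) (j : Fin k) :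
    B (e j) (∑ i, a i • e i + ∑ i, b i • f i) = b j ∧ B (f j) (∑ i, a i • e i + ∑ i, b i • f i) = -a j := by
  refine ⟨?_, ?_⟩ <;>
  simp [map_add, map_sum, map_smul, hb.ee, hb.ff, hb.ef, hb.fe hA]

theorem Frame.linearIndependent (hA : B.IsAlt) {k : ℕ} {e f : Fin k → V} (hb : Frame B e f) :
    LinearIndependent F (Sum.elim e f) := by
  rw [Fintype.linearIndependent_iff]
  intro g hg i
  rw [Fintype.sum_sum_type] at hg
  simp only [Sum.elim_inl, Sum.elim_inr] at hg
  rcases i with i | i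
  · have := (hb.left hA (fun i => g (Sum.inl i)) (fun i => g (Sum.inr i)) i).2
    rw [hg, map_zero] at this
    exact neg_eq_zero.1 this.symm
  · have := (hb.left hA (fun i => g (Sum.inl i)) (fun i => g (Sum.inr i)) i).1
    rw [hg, map_zero] at this
    exact this.symm

/-- The data for splitting off hyperbolic pairs along `T`. -/
structure Splits (B : LinearMap.BilinForm F V) (T : Module.End F V) (P : V → V → Prop) : Prop where
  inv : ∀ e f, P e f → T e ∈ Submodule.span F {e, f} ∧ T f ∈ Submodule.span F {e, f}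
  exist : ∀ W : Submodule F V, W ≠ ⊥ → (∀ w ∈ W, T w ∈ W) → (∀ u ∈ W, (∀ v ∈ W, B u v = 0) → u = 0) →
    ∃ e ∈ W, ∃ f ∈ W, B e f = 1 ∧ P e f

theorem exists_frame_on [FiniteDimensional F V] (hA : B.IsAlt) {T : Module.End F V} {μ z : F} (hμ : ∀ u v, B (T u) (T v) = μ * B u v)
    (hz : ∀ v, T (T v) = z • v) (hz0 : z ≠ 0) {P : V → V → Prop} (hS : Splits B T P) :
    ∀ (n : ℕ) (W : Submodule F V), finrank F W = n → (∀ w ∈ W, T w ∈ W) →
      (∀ u ∈ W, (∀ v ∈ W, B u v = 0) → u = 0) →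
      ∃ (k : ℕ) (e f : Fin k → V), (∀ i, e i ∈ W) ∧ (∀ i, f i ∈ W) ∧ Frame B e f ∧ (∀ i, P (e i) (f i)) ∧
        W ≤ Submodule.span F (Set.range (Sum.elim e f)) := by
  intro n
  induction n using Nat.strong_induction_on with
  | _ n ih =>
  intro W hn hTW hW
  by_cases h0 : W = ⊥
  · exact ⟨0, Fin.elim0, Fin.elim0, fun i => i.elim0, fun i => i.elim0,
      ⟨fun i => i.elim0, fun i => i.elim0, fun i => i.elim0⟩, fun i => i.elim0, by rw [h0]; exact bot_le⟩
  obtain ⟨e₀, he₀, f₀, hf₀, hef, hP⟩ := hS.exist W h0 hTW hW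
  let W' : Submodule F V := W ⊓ LinearMap.ker (B e₀) ⊓ LinearMap.ker (B f₀)
  have hm : ∀ {w}, w ∈ W' ↔ (w ∈ W ∧ B e₀ w = 0) ∧ B f₀ w = 0 := fun {w} => Iff.rfl
  have hspan : ∀ w ∈ W', ∀ y ∈ Submodule.span F {e₀, f₀}, B y w = 0 := fun w hw y hy => by
    obtain ⟨a, b, rfl⟩ := Submodule.mem_span_pair.1 hy
    simp [(hm.1 hw).1.2, (hm.1 hw).2]
  have hT' : ∀ w ∈ W', T w ∈ W' := fun w hw => by
    have key : ∀ y : V, T y ∈ Submodule.span F {e₀, f₀} → B y (T w) = 0 := fun y hy => by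
      have h1 := hμ (T y) w
      rw [hz, map_smul, LinearMap.smul_apply, smul_eq_mul, hspan w hw _ hy, mul_zero] at h1
      exact (mul_eq_zero.1 h1).resolve_left hz0
    exact hm.2 ⟨⟨hTW w (hm.1 hw).1.1, key _ (hS.inv _ _ hP).1⟩, key _ (hS.inv _ _ hP).2⟩
  have hfe : B f₀ e₀ = -1 := by rw [Alt.neg' hA, hef]
  have hproj : ∀ v ∈ W, v + (B f₀ v) • e₀ - (B e₀ v) • f₀ ∈ W' := fun v hv => hm.2 ⟨⟨
    sub_mem (add_mem hv (W.smul_mem _ he₀)) (W.smul_mem _ hf₀), by simp [hA.self_eq_zero, hef]⟩,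
    by simp [hA.self_eq_zero, hfe]⟩
  have hW' : ∀ u ∈ W', (∀ v ∈ W', B u v = 0) → u = 0 := fun u hu h => hW u (hm.1 hu).1.1 fun v hv => by
    have h1 := h _ (hproj v hv)
    have he : B u e₀ = 0 := by rw [Alt.neg' hA, (hm.1 hu).1.2, neg_zero]
    have hf : B u f₀ = 0 := by rw [Alt.neg' hA, (hm.1 hu).2, neg_zero]
    simpa [he, hf] using h1
  have hlt : W' < W := lt_of_le_of_ne (inf_le_left.trans inf_le_left) fun e => by
    have := (hm.1 (e.symm ▸ he₀ : e₀ ∈ W')).2
    rw [hfe] at this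
    exact one_ne_zero (neg_eq_zero.1 this)
  obtain ⟨k, e, f, he, hf, hb, hPk, hsp⟩ := ih _ (hn ▸ Submodule.finrank_lt_finrank_of_lt hlt) W' rfl hT' hW'
  have hE : ∀ i, B e₀ (e i) = 0 ∧ B f₀ (e i) = 0 := fun i => ⟨(hm.1 (he i)).1.2, (hm.1 (he i)).2⟩
  have hF : ∀ i, B e₀ (f i) = 0 ∧ B f₀ (f i) = 0 := fun i => ⟨(hm.1 (hf i)).1.2, (hm.1 (hf i)).2⟩
  refine ⟨k + 1, Fin.cons e₀ e, Fin.cons f₀ f, fun i => ?_, fun i => ?_, ⟨fun i j => ?_, fun i j => ?_, fun i j => ?_⟩,
    fun i => ?_, fun v hv => ?_⟩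
  · refine Fin.cases ?_ (fun i => ?_) i
    · simpa using he₀
    · simpa using (hm.1 (he i)).1.1
  · refine Fin.cases ?_ (fun i => ?_) i
    · simpa using hf₀
    · simpa using (hm.1 (hf i)).1.1
  · refine Fin.cases ?_ (fun i => ?_) i <;> refine Fin.cases ?_ (fun j => ?_) j
    · simp [hA.self_eq_zero]
    · simp [(hE j).1]
    · simp [Alt.neg' hA e₀, (hE i).1]
    · simp [hb.ee]
  · refine Fin.cases ?_ (fun i => ?_) i <;> refine Fin.cases ?_ (fun j => ?_) j
    · simp [hA.self_eq_zero]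
    · simp [(hF j).2]
    · simp [Alt.neg' hA f₀, (hF i).2]
    · simp [hb.ff]
  · refine Fin.cases ?_ (fun i => ?_) i <;> refine Fin.cases ?_ (fun j => ?_) j
    · simp [hef]
    · simp [(hF j).1, (Fin.succ_ne_zero j).symm]
    · simp [Alt.neg' hA f₀, (hE i).2, Fin.succ_ne_zero i]
    · simp [hb.ef]
  · refine Fin.cases ?_ (fun i => ?_) i
    · simpa using hP
    · simpa using hPk i
  · have hr : ∀ x ∈ Set.range (Sum.elim e f), x ∈ Submodule.span F (Set.range (Sum.elim (Fin.cons e₀ e : Fin (k + 1) → V) (Fin.cons f₀ f))) := by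
      rintro _ ⟨i | i, rfl⟩
      · exact Submodule.subset_span ⟨Sum.inl i.succ, by simp⟩
      · exact Submodule.subset_span ⟨Sum.inr i.succ, by simp⟩
    have h1 := Submodule.span_le.2 hr (hsp (hproj v hv))
    have e1 : v = (v + (B f₀ v) • e₀ - (B e₀ v) • f₀) - (B f₀ v) • e₀ + (B e₀ v) • f₀ := by abel
    rw [e1]
    exact add_mem (sub_mem h1 (Submodule.smul_mem _ _ (Submodule.subset_span ⟨Sum.inl 0, by simp⟩)))
      (Submodule.smul_mem _ _ (Submodule.subset_span ⟨Sum.inr 0, by simp⟩))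

theorem exists_frame [FiniteDimensional F V] (hA : B.IsAlt) (hB : B.Nondegenerate) {T : Module.End F V} {μ z : F}
    (hμ : ∀ u v, B (T u) (T v) = μ * B u v)
    (hz : ∀ v, T (T v) = z • v) (hz0 : z ≠ 0) {P : V → V → Prop} (hS : Splits B T P) {d : ℕ}
    (hd : finrank F V = 2 * d) :
    ∃ e f : Fin d → V, Frame B e f ∧ ∀ i, P (e i) (f i) := by
  obtain ⟨k, e, f, -, -, hb, hP, hsp⟩ := exists_frame_on hA hμ hz hz0 hS _ ⊤ rfl (fun _ _ => trivial)
    fun u _ h => hB.1 u fun v => h v trivial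
  obtain rfl : k = d := by
    have h := finrank_span_eq_card (hb.linearIndependent hA)
    rw [top_le_iff.1 hsp, finrank_top, hd, Fintype.card_sum, Fintype.card_fin] at h
    omega
  exact ⟨e, f, hb, hP⟩

/-- The basis of a full frame. -/
noncomputable def Frame.basis [FiniteDimensional F V] (hA : B.IsAlt) {d : ℕ} {e f : Fin d → V} (hb : Frame B e f)
    (hd : finrank F V = 2 * d) : Basis (Fin d ⊕ Fin d) F V :=
  basisOfLinearIndependentOfCardEqFinrank' _ (hb.linearIndependent hA)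
    (by rw [Fintype.card_sum, Fintype.card_fin, hd, two_mul])

theorem Frame.basis_apply [FiniteDimensional F V] (hA : B.IsAlt) {d : ℕ} {e f : Fin d → V} (hb : Frame B e f)
    (hd : finrank F V = 2 * d) (i : Fin d ⊕ Fin d) : hb.basis hA hd i = Sum.elim e f i := by
  simp [Frame.basis]

/-- Coordinates in a full frame. -/
theorem Frame.exists_coord [FiniteDimensional F V] (hA : B.IsAlt) {d : ℕ} {e f : Fin d → V} (hb : Frame B e f)
    (hd : finrank F V = 2 * d) (v : V) : ∃ a b : Fin d → F, ∑ i, a i • e i + ∑ i, b i • f i = v := by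
  refine ⟨fun i => (hb.basis hA hd).repr v (Sum.inl i), fun i => (hb.basis hA hd).repr v (Sum.inr i), ?_⟩
  conv_rhs => rw [← (hb.basis hA hd).sum_repr v]
  rw [Fintype.sum_sum_type]
  simp only [Frame.basis_apply, Sum.elim_inl, Sum.elim_inr]

/-- The isometry between two frames. -/
theorem Frame.exists_map [FiniteDimensional F V] (hA : B.IsAlt) {d : ℕ} {e f e' f' : Fin d → V} (hb : Frame B e f)
    (hb' : Frame B e' f') (hd : finrank F V = 2 * d) :
    ∃ g : V ≃ₗ[F] V, (∀ i, g (e i) = e' i) ∧ (∀ i, g (f i) = f' i) ∧ ∀ u v, B (g u) (g v) = B u v := by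
  let g := (hb.basis hA hd).equiv (hb'.basis hA hd) (Equiv.refl _)
  have he : ∀ i, g (e i) = e' i := fun i => by
    have := (hb.basis hA hd).equiv_apply (Sum.inl i) (hb'.basis hA hd) (Equiv.refl _)
    simpa [g, Frame.basis_apply] using this
  have hf : ∀ i, g (f i) = f' i := fun i => by
    have := (hb.basis hA hd).equiv_apply (Sum.inr i) (hb'.basis hA hd) (Equiv.refl _)
    simpa [g, Frame.basis_apply] using this
  refine ⟨g, he, hf, fun u v => ?_⟩
  obtain ⟨a, b, rfl⟩ := hb.exists_coord hA hd u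
  obtain ⟨a', b', rfl⟩ := hb.exists_coord hA hd v
  rw [hb.pair hA]
  have hg : ∀ c c' : Fin d → F, g (∑ i, c i • e i + ∑ i, c' i • f i) = ∑ i, c i • e' i + ∑ i, c' i • f' i :=
    fun c c' => by simp only [map_add, map_sum, map_smul, he, hf]
  rw [hg, hg]
  exact hb'.pair hA a b a' b'

end Cfsg.Agent.SkewStruct
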