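import Mathlib
import Cfsg.Agent.SkewStruct.Frame
import Cfsg.Agent.Classical.HermGroup

/-!
Skew endomorphisms `J` with `J² = t` a non-square on a symplectic space: uniqueness, the order of the centraliser,
and such a `J` attached to an isometry with scalar square.
-/

set_option autoImplicit false
set_option linter.unusedSectionVars false
set_option linter.style.haveILetI false

namespace Cfsg.Agent.SkewStruct

open Module Polynomial Cfsg.Agent.Classical

variable {F V : Type*} [Field F] [AddCommGroup V] [Module F V]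

/-- A skew endomorphism with square `t`. -/
structure IsSkew (B : LinearMap.BilinForm F V) (J : Module.End F V) (t : F) : Prop where
  skew : ∀ u v, B (J u) v = -B u (J v)
  sq : ∀ v, J (J v) = t • v

variable {B : LinearMap.BilinForm F V} {J : Module.End F V} {t : F}

theorem IsSkew.scale (hJ : IsSkew B J t) (u v : V) : B (J u) (J v) = -t * B u v := by
  rw [hJ.skew, hJ.sq, map_smul, smul_eq_mul, neg_mul]

theorem IsSkew.swap (hA : B.IsAlt) (hJ : IsSkew B J t) (u v : V) : B v (J u) = B u (J v) := by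
  rw [Alt.neg' hA (J u) v, hJ.skew, neg_neg]

/-- `P` for adapted frames. -/
def Adapted (J : Module.End F V) (e f : V) : Prop := f = J e

theorem IsSkew.splits [Fintype F] (h2 : (2 : F) ≠ 0) (hA : B.IsAlt) (hJ : IsSkew B J t) (ht : ¬ IsSquare t) :
    Splits B J (Adapted J) where
  inv e f h := by
    rw [h, hJ.sq]
    exact ⟨Submodule.subset_span (by simp), Submodule.smul_mem _ _ (Submodule.subset_span (by simp))⟩
  exist W hW0 hWT hW := by
    have ht0 : t ≠ 0 := fun e => ht (e ▸ IsSquare.zero)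
    obtain ⟨v, hv, hγ⟩ : ∃ v ∈ W, B v (J v) ≠ 0 := by
      by_contra hc
      push Not at hc
      refine hW0 ((Submodule.eq_bot_iff W).2 fun u hu => hW u hu fun w hw => ?_)
      have h1 := hc (u + J w) (add_mem hu (hWT w hw))
      simp only [map_add, LinearMap.add_apply, hc u hu, hc (J w) (hWT w hw)] at h1
      rw [zero_add, add_zero, hJ.swap hA u (J w), hJ.sq, map_smul, smul_eq_mul] at h1
      have h3 : 2 * (t * B u w) = 0 := by linear_combination h1
      exact ((mul_eq_zero.1 ((mul_eq_zero.1 h3).resolve_left h2)).resolve_left ht0)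
    obtain ⟨γ, hγe⟩ : ∃ γ, B v (J v) = γ := ⟨_, rfl⟩
    rw [hγe] at hγ
    have hodd : Fintype.card F % 2 = 1 := FiniteField.odd_card_of_char_ne_two fun e => h2 (by
      haveI := ringChar.of_eq (R := F) e
      exact CharTwo.two_eq_zero)
    obtain ⟨a, b, hab⟩ := FiniteField.exists_root_sum_quadratic (f := (X : F[X]) ^ 2)
      (g := C (-t) * X ^ 2 + C (-γ⁻¹)) (degree_X_pow 2)
      (by
        rw [degree_add_C (by rw [degree_C_mul_X_pow 2 (neg_ne_zero.2 ht0)]; decide)]
        exact degree_C_mul_X_pow 2 (neg_ne_zero.2 ht0)) hodd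
    simp only [eval_pow, eval_X, eval_add, eval_mul, eval_C] at hab
    refine ⟨a • v + b • J v, add_mem (W.smul_mem _ hv) (W.smul_mem _ (hWT v hv)), J (a • v + b • J v),
      hWT _ (add_mem (W.smul_mem _ hv) (W.smul_mem _ (hWT v hv))), ?_, rfl⟩
    have e : B (J v) v = -γ := by rw [Alt.neg' hA, hγe]
    simp only [map_add, map_smul, hJ.sq, LinearMap.add_apply, LinearMap.smul_apply, smul_eq_mul, hA.self_eq_zero, hγe, e]
    have hgg : γ⁻¹ * γ = 1 := inv_mul_cancel₀ hγ
    linear_combination γ * hab + hgg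

variable [Fintype F] [FiniteDimensional F V]

theorem IsSkew.exists_frame (h2 : (2 : F) ≠ 0) (hA : B.IsAlt) (hB : B.Nondegenerate) (hJ : IsSkew B J t)
    (ht : ¬ IsSquare t) {d : ℕ} (hd : finrank F V = 2 * d) : ∃ e : Fin d → V, Frame B e fun i => J (e i) := by
  obtain ⟨e, f, hb, hP⟩ := SkewStruct.exists_frame hA hB hJ.scale hJ.sq (fun e => ht (e ▸ IsSquare.zero))
    (hJ.splits h2 hA ht) hd
  exact ⟨e, (funext hP : f = fun i => J (e i)) ▸ hb⟩

/-- Uniqueness up to isometry. -/
theorem IsSkew.exists_conj (h2 : (2 : F) ≠ 0) (hA : B.IsAlt) (hB : B.Nondegenerate) (hJ : IsSkew B J t)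
    {J' : Module.End F V} (hJ' : IsSkew B J' t) (ht : ¬ IsSquare t) {d : ℕ} (hd : finrank F V = 2 * d) :
    ∃ g : V ≃ₗ[F] V, (∀ u v, B (g u) (g v) = B u v) ∧ ∀ v, g (J v) = J' (g v) := by
  obtain ⟨e, hb⟩ := hJ.exists_frame h2 hA hB ht hd
  obtain ⟨e', hb'⟩ := hJ'.exists_frame h2 hA hB ht hd
  obtain ⟨g, hge, hgf, hg⟩ := hb.exists_map hA hb' hd
  refine ⟨g, hg, fun v => ?_⟩
  obtain ⟨a, b, rfl⟩ := hb.exists_coord hA hd v
  simp only [map_add, map_sum, map_smul, hJ.sq, hge, hgf, hJ'.sq]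

/-! ### The centraliser -/

/-- The isometries commuting with `J`. -/
def centJ (B : LinearMap.BilinForm F V) (J : Module.End F V) : Type _ :=
  {g : V ≃ₗ[F] V // (∀ u v, B (g u) (g v) = B u v) ∧ ∀ v, g (J v) = J (g v)}

/-- The order of a unitary group with the signs. -/
def nrm (q m : ℕ) : ℕ := if Even m then q ^ (m - 1) * (q ^ m - 1) else q ^ (m - 1) * (q ^ m + 1)

theorem card_centJ {L : Type*} [Field L] [Algebra F L] (hL : finrank F L = 2) (h2 : (2 : F) ≠ 0) (hA : B.IsAlt)
    (hB : B.Nondegenerate) (hJ : IsSkew B J t) (ht : ¬ IsSquare t) {δ : L} (hδ : δ * δ = algebraMap F L t) {d : ℕ}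
    (hd : finrank F V = 2 * d) :
    Nat.card (centJ B J) = ∏ j ∈ Finset.range d, nrm (Fintype.card F) (d - j) := by
  classical
  haveI : FiniteDimensional F L := Module.finite_of_finrank_pos (by omega)
  haveI : Finite L := Module.finite_of_finite F
  haveI := Fintype.ofFinite L
  have hcard : Fintype.card L = Fintype.card F ^ 2 := by rw [Module.card_eq_pow_finrank (K := F), hL]
  obtain ⟨σ, hσq, hσ, hfix, -⟩ := exists_powHom (F := L) hcard
  have hσF : ∀ a : F, σ (algebraMap F L a) = algebraMap F L a := fun a => by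
    rw [hσq, ← map_pow, FiniteField.pow_card]
  have hδF : ∀ a : F, δ ≠ algebraMap F L a := fun a e => by
    rw [e, ← map_mul] at hδ
    exact ht ⟨a, ((algebraMap F L).injective hδ).symm⟩
  -- coordinates
  let c : F × F →ₗ[F] L := (Algebra.linearMap F L).coprod (LinearMap.toSpanSingleton F L δ)
  have hc : ∀ a b : F, c (a, b) = algebraMap F L a + algebraMap F L b * δ := fun a b => by
    simp [c, Algebra.smul_def]
  have hci : Function.Injective c := (injective_iff_map_eq_zero c).2 fun w hw => by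
    rw [show w = (w.1, w.2) from rfl, hc] at hw
    by_cases h0 : w.2 = 0
    · rw [h0, map_zero, zero_mul, add_zero] at hw
      exact Prod.ext ((algebraMap F L).injective (hw.trans (map_zero _).symm)) h0
    · refine absurd ?_ (hδF (-(w.2⁻¹ * w.1)))
      have e : algebraMap F L w.2⁻¹ * algebraMap F L w.2 = 1 := by rw [← map_mul, inv_mul_cancel₀ h0, map_one]
      rw [map_neg, map_mul]
      linear_combination algebraMap F L w.2⁻¹ * hw - δ * e
  let ce : (F × F) ≃ₗ[F] L := LinearMap.linearEquivOfInjective c hci (by rw [Module.finrank_prod, finrank_self, hL])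
  have hce : ∀ a b : F, ce (a, b) = algebraMap F L a + algebraMap F L b * δ := hc
  have hσδ : σ δ = -δ := by
    have h : σ δ * σ δ = δ * δ := by rw [← map_mul, hδ, hσF]
    refine (mul_self_eq_mul_self_iff.1 h).resolve_left fun e => ?_
    obtain ⟨b, hb⟩ := Herm.exists_moved hσ
    obtain ⟨⟨u, w⟩, rfl⟩ := ce.surjective b
    exact hb (by rw [hce, map_add, map_mul, hσF, hσF, e])
  obtain ⟨e₀, hb₀⟩ := hJ.exists_frame h2 hA hB ht hd
  -- frames
  let Fr := {a : Fin d → V // Frame B a fun i => J (a i)}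
  have h1 : Nat.card (centJ B J) = Nat.card Fr := by
    refine Nat.card_eq_of_bijective (fun g => (⟨fun i => g.1 (e₀ i),
      ⟨fun i j => (g.2.1 _ _).trans (hb₀.ee i j), fun i j => by rw [← g.2.2, ← g.2.2, g.2.1]; exact hb₀.ff i j,
        fun i j => by rw [← g.2.2, g.2.1]; exact hb₀.ef i j⟩⟩ : Fr)) ⟨fun g g' h => ?_, fun a => ?_⟩
    · refine Subtype.ext (LinearEquiv.ext fun v => ?_)
      have he : ∀ i, g.1 (e₀ i) = g'.1 (e₀ i) := fun i => congrFun (congrArg Subtype.val h) i
      obtain ⟨u, w, rfl⟩ := hb₀.exists_coord hA hd v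
      simp only [map_add, map_sum, map_smul, he, g.2.2, g'.2.2]
    · obtain ⟨g, hge, hgf, hg⟩ := hb₀.exists_map hA a.2 hd
      refine ⟨⟨g, hg, fun v => ?_⟩, Subtype.ext (funext hge)⟩
      obtain ⟨u, w, rfl⟩ := hb₀.exists_coord hA hd v
      simp only [map_add, map_sum, map_smul, hJ.sq, hge, hgf]
  let Ψ : (Fin d → L) → V := fun w => ∑ i, (ce.symm (w i)).1 • e₀ i + ∑ i, (ce.symm (w i)).2 • J (e₀ i)
  have hΨb : Function.Bijective Ψ := by
    refine ⟨fun w w' h => funext fun i => ce.symm.injective (Prod.ext ?_ ?_), fun v => ?_⟩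
    · have := congrArg (B (J (e₀ i))) h
      rwa [(hb₀.left hA _ _ i).2, (hb₀.left hA _ _ i).2, neg_inj] at this
    · have := congrArg (B (e₀ i)) h
      rwa [(hb₀.left hA _ _ i).1, (hb₀.left hA _ _ i).1] at this
    · obtain ⟨a, b, rfl⟩ := hb₀.exists_coord hA hd v
      exact ⟨fun i => ce (a i, b i), by simp only [Ψ, LinearEquiv.symm_apply_apply]⟩
  have hherm : ∀ w w', hermB d σ w w' = ce (B (Ψ w) (J (Ψ w')), B (Ψ w) (Ψ w')) := by
    intro w w'
    obtain ⟨⟨a, b⟩, rfl⟩ : ∃ ab : (Fin d → F) × (Fin d → F), w = fun i => ce (ab.1 i, ab.2 i) :=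
      ⟨(fun i => (ce.symm (w i)).1, fun i => (ce.symm (w i)).2), funext fun i => by simp⟩
    obtain ⟨⟨a', b'⟩, rfl⟩ : ∃ ab : (Fin d → F) × (Fin d → F), w' = fun i => ce (ab.1 i, ab.2 i) :=
      ⟨(fun i => (ce.symm (w' i)).1, fun i => (ce.symm (w' i)).2), funext fun i => by simp⟩
    have hJΨ : J (∑ i, a' i • e₀ i + ∑ i, b' i • J (e₀ i)) =
        ∑ i, (t * b' i) • e₀ i + ∑ i, a' i • J (e₀ i) := by
      simp only [map_add, map_sum, map_smul, hJ.sq, smul_smul, mul_comm t]
      rw [add_comm]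
    simp only [Ψ, LinearEquiv.symm_apply_apply]
    rw [hJΨ, hb₀.pair hA, hb₀.pair hA]
    simp only [hermB_apply, hce, map_sum, Finset.sum_mul, map_add, map_sub, map_mul, hσF, hσδ, ← Finset.sum_add_distrib]
    exact Finset.sum_congr rfl fun i _ => by
      linear_combination -(algebraMap F L (b i) * algebraMap F L (b' i)) * hδ
  have h3 : Nat.card {a : Fin d → Fin d → L // Herm.IsON (hermB d σ) a} = Nat.card Fr := by
    have hiff : ∀ a : Fin d → Fin d → L, Herm.IsON (hermB d σ) a ↔ Frame B (fun i => Ψ (a i)) fun i => J (Ψ (a i)) := by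
      intro a
      have hone : ce (1, 0) = 1 := by simp [hce]
      refine ⟨fun h => ?_, fun h i j => ?_⟩
      · have h' : ∀ i j, B (Ψ (a i)) (J (Ψ (a j))) = (if i = j then 1 else 0) ∧ B (Ψ (a i)) (Ψ (a j)) = 0 := by
          intro i j
          have h0 := h i j
          rw [hherm, show (if i = j then (1 : L) else 0) = ce ((if i = j then (1 : F) else 0), 0) by
            split_ifs <;> simp [hce]] at h0
          exact Prod.ext_iff.1 (ce.injective h0)
        exact ⟨fun i j => (h' i j).2, fun i j => by rw [hJ.scale, (h' i j).2, mul_zero], fun i j => (h' i j).1⟩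
      · rw [hherm, h.ef, h.ee]
        split_ifs <;> simp [hce]
    exact Nat.card_eq_of_bijective (fun a => (⟨fun i => Ψ (a.1 i), (hiff a.1).1 a.2⟩ : Fr))
      ⟨fun a a' h => Subtype.ext (funext fun i => hΨb.1 (congrFun (congrArg Subtype.val h) i)), fun a => by
        choose p hp using fun i => hΨb.2 (a.1 i)
        exact ⟨⟨p, (hiff p).2 (by simpa [hp] using a.2)⟩, Subtype.ext (funext hp)⟩⟩
  rw [h1, ← h3, card_frames hσ hfix d d le_rfl]
  exact Finset.prod_congr rfl fun j _ => card_herm_one hσ hfix _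

/-! ### A structure compatible with an isometry with scalar square -/

/-- `P` for eigen frames. -/
def Eigen (x : Module.End F V) (z : F) (e f : V) : Prop := ∃ c : F, c * c = z ∧ x e = c • e ∧ x f = c⁻¹ • f

theorem splits_eigen (h2 : (2 : F) ≠ 0) {x : Module.End F V} {s : F} (hs : s ≠ 0) (hx : ∀ u v, B (x u) (x v) = B u v)
    (hxx : ∀ v, x (x v) = (s * s) • v) : Splits B x (Eigen x (s * s)) := by
  refine ⟨fun e f ⟨c, _, he, hf⟩ => ⟨he ▸ Submodule.smul_mem _ _ (Submodule.subset_span (by simp)),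
    hf ▸ Submodule.smul_mem _ _ (Submodule.subset_span (by simp))⟩, fun W hW0 hWT hW => ?_⟩
  have heig : ∀ (ε : F), ε * ε = 1 → ∀ v, x (v + (ε * s⁻¹) • x v) = (ε * s) • (v + (ε * s⁻¹) • x v) := by
    intro ε hε v
    rw [map_add, map_smul, hxx, smul_add, smul_smul, smul_smul,
      show ε * s * (ε * s⁻¹) = 1 by rw [mul_mul_mul_comm, hε, mul_inv_cancel₀ hs, mul_one],
      show ε * s⁻¹ * (s * s) = ε * s by rw [mul_assoc, ← mul_assoc s⁻¹, inv_mul_cancel₀ hs, one_mul], one_smul]
    rw [add_comm]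
  have hsum : ∀ v, (v + ((1 : F) * s⁻¹) • x v) + (v + ((-1 : F) * s⁻¹) • x v) = (2 : F) • v := fun v => by
    rw [one_mul, neg_one_mul, neg_smul, two_smul]; abel
  have hmem : ∀ (ε : F), ∀ v ∈ W, v + (ε * s⁻¹) • x v ∈ W := fun ε v hv => add_mem hv (W.smul_mem _ (hWT v hv))
  obtain ⟨v, hv, hv0⟩ := Submodule.exists_mem_ne_zero_of_ne_bot hW0
  obtain ⟨e, he, he0, c, hc, hce⟩ : ∃ e ∈ W, e ≠ 0 ∧ ∃ c, c * c = s * s ∧ x e = c • e := by
    by_cases h : v + ((1 : F) * s⁻¹) • x v = 0
    · refine ⟨_, hmem (-1) v hv, fun h' => ?_, _, by ring, heig (-1) (by ring) v⟩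
      have := hsum v
      rw [h, h', add_zero] at this
      exact hv0 ((smul_eq_zero.1 this.symm).resolve_left h2)
    · exact ⟨_, hmem 1 v hv, h, _, by ring, heig 1 (by ring) v⟩
  obtain ⟨w, hw, hew⟩ : ∃ w ∈ W, B e w ≠ 0 := by
    by_contra hh
    push Not at hh
    exact he0 (hW e he hh)
  obtain ⟨f, hf, hef, c', hcf⟩ : ∃ f ∈ W, B e f ≠ 0 ∧ ∃ c', x f = c' • f := by
    by_cases h : B e (w + ((1 : F) * s⁻¹) • x w) = 0
    · refine ⟨_, hmem (-1) w hw, fun h' => ?_, _, heig (-1) (by ring) w⟩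
      have := congrArg (B e) (hsum w)
      rw [map_add, h, h', add_zero, map_smul, smul_eq_mul] at this
      exact hew ((mul_eq_zero.1 this.symm).resolve_left h2)
    · exact ⟨_, hmem 1 w hw, h, _, heig 1 (by ring) w⟩
  have hcc : c * c' = 1 := by
    have := hx e f
    rw [hce, hcf, map_smul, map_smul, LinearMap.smul_apply, smul_eq_mul, smul_eq_mul] at this
    exact (mul_eq_right₀ hef).1 (by linear_combination this)
  refine ⟨e, he, (B e f)⁻¹ • f, W.smul_mem _ hf, by rw [map_smul, smul_eq_mul, inv_mul_cancel₀ hef], c, hc, hce, ?_⟩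
  rw [map_smul, hcf, smul_comm, eq_inv_of_mul_eq_one_right hcc]

theorem exists_skew_split (h2 : (2 : F) ≠ 0) (hA : B.IsAlt) (hB : B.Nondegenerate) {x : Module.End F V} {z : F}
    (hz : z * z = 1) (hsq : IsSquare z) (hx : ∀ u v, B (x u) (x v) = B u v) (hxx : ∀ v, x (x v) = z • v) (t : F)
    {d : ℕ} (hd : finrank F V = 2 * d) :
    ∃ J : Module.End F V, IsSkew B J t ∧ ∀ v, x (J v) = z • J (x v) := by
  obtain ⟨s, rfl⟩ := hsq
  have hs : s ≠ 0 := fun e => by simp [e] at hz
  have hS : Splits B x (Eigen x (s * s)) := splits_eigen h2 hs hx hxx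
  obtain ⟨e, f, hb, hP⟩ := SkewStruct.exists_frame hA hB (fun u v => (hx u v).trans (one_mul _).symm) hxx
    (mul_ne_zero hs hs) hS hd
  choose c hc hce hcf using hP
  let J : Module.End F V := (hb.basis hA hd).constr F (Sum.elim f fun i => t • e i)
  have hJe : ∀ i, J (e i) = f i := fun i => by
    have := (hb.basis hA hd).constr_basis F (Sum.elim f fun i => t • e i) (Sum.inl i)
    rwa [hb.basis_apply] at this
  have hJf : ∀ i, J (f i) = t • e i := fun i => by
    have := (hb.basis hA hd).constr_basis F (Sum.elim f fun i => t • e i) (Sum.inr i)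
    rwa [hb.basis_apply] at this
  refine ⟨J, ⟨fun u v => ?_, fun v => ?_⟩, fun v => ?_⟩
  · obtain ⟨a, b, rfl⟩ := hb.exists_coord hA hd u
    obtain ⟨a', b', rfl⟩ := hb.exists_coord hA hd v
    have hJc : ∀ a b : Fin d → F, J (∑ i, a i • e i + ∑ i, b i • f i) = ∑ i, (t * b i) • e i + ∑ i, a i • f i := by
      intro a b
      simp only [map_add, map_sum, map_smul, hJe, hJf, smul_smul, mul_comm t]
      rw [add_comm]
    rw [hJc, hJc, hb.pair hA, hb.pair hA, ← Finset.sum_neg_distrib]
    exact Finset.sum_congr rfl fun i _ => by ring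
  · obtain ⟨a, b, rfl⟩ := hb.exists_coord hA hd v
    simp only [map_add, map_sum, map_smul, hJe, hJf, smul_add, Finset.smul_sum, smul_comm t]
  · obtain ⟨a, b, rfl⟩ := hb.exists_coord hA hd v
    have k1 : ∀ i, (c i)⁻¹ = s * s * c i := fun i => by
      refine inv_eq_of_mul_eq_one_right ?_
      rw [← hc i] at hz ⊢
      linear_combination hz
    have hcc : ∀ i, c i = s * s * (c i)⁻¹ := fun i => by rw [k1, ← mul_assoc, hz, one_mul]
    simp only [map_add, map_sum, map_smul, hce, hcf, hJe, hJf, smul_add, Finset.smul_sum, smul_smul]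
    congr 1 <;> refine Finset.sum_congr rfl fun i _ => ?_
    · rw [k1 i]
      congr 1
      ring
    · rw [k1 i]
      congr 1
      linear_combination -(b i * t * c i) * hz

theorem exists_skew (h2 : (2 : F) ≠ 0) (hA : B.IsAlt) (hB : B.Nondegenerate) {x : Module.End F V} {z : F}
    (hz : z * z = 1) (hx : ∀ u v, B (x u) (x v) = B u v) (hxx : ∀ v, x (x v) = z • v) {t : F} (ht : ¬ IsSquare t)
    {d : ℕ} (hd : finrank F V = 2 * d) :
    ∃ (J : Module.End F V) (ε : F), IsSkew B J t ∧ (ε = 1 ∨ ε = -1) ∧ ∀ v, x (J v) = ε • J (x v) := by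
  by_cases hsq : IsSquare z
  · obtain ⟨J, hJ, hxJ⟩ := exists_skew_split h2 hA hB hz hsq hx hxx t hd
    exact ⟨J, z, hJ, mul_self_eq_one_iff.1 hz, hxJ⟩
  · have hz1 : z = -1 := (mul_self_eq_one_iff.1 hz).resolve_left fun e => hsq (e ▸ IsSquare.one)
    have ht0 : t ≠ 0 := fun e => ht (e ▸ IsSquare.zero)
    obtain ⟨s, hs⟩ : IsSquare (-t) := by
      have hodd : ringChar F ≠ 2 := fun e => h2 (by
        haveI := ringChar.of_eq (R := F) e
        exact CharTwo.two_eq_zero)
      classical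
      have h1 : quadraticChar F t = -1 := quadraticChar_neg_one_iff_not_isSquare.2 ht
      have h3 : quadraticChar F z = -1 := quadraticChar_neg_one_iff_not_isSquare.2 hsq
      have h4 : quadraticChar F (-t) = 1 := by
        rw [show -t = z * t by rw [hz1]; ring, map_mul, h1, h3]; norm_num
      exact (quadraticChar_one_iff_isSquare (neg_ne_zero.2 ht0)).1 h4
    refine ⟨s • x, 1, ⟨fun u v => ?_, fun v => ?_⟩, Or.inl rfl, fun v => by simp⟩
    · have h5 := hx u (x v)
      rw [hxx, map_smul, hz1, smul_eq_mul, neg_one_mul] at h5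
      simp only [LinearMap.smul_apply, map_smul, smul_eq_mul]
      linear_combination -(s : F) * h5
    · simp only [LinearMap.smul_apply, map_smul, hxx, smul_smul, hz1]
      congr 1
      linear_combination hs

end Cfsg.Agent.SkewStruct
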