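import Mathlib
import Cfsg.Agent.SkewStruct.Basic
import Cfsg.Agent.Classical.SympGroup
import Cfsg.Agent.Classical.Linear2

/-!
Symplectic maps of odd prime order that centralise no skew `J` with non-square square.
-/

set_option autoImplicit false
set_option linter.unusedSectionVars false
set_option linter.style.haveILetI false

namespace Cfsg.Agent.SkewStruct

open Module Matrix Cfsg.Agent.Classical

variable {F : Type*} [Field F]

/-- Two symplectic spaces of the same dimension are isometric. -/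
theorem exists_iso {V W : Type*} [AddCommGroup V] [Module F V] [FiniteDimensional F V] [AddCommGroup W] [Module F W]
    [FiniteDimensional F W] {B : LinearMap.BilinForm F V} {B' : LinearMap.BilinForm F W} (hA : B.IsAlt)
    (hB : B.Nondegenerate) (hA' : B'.IsAlt) (hB' : B'.Nondegenerate) {d : ℕ} (hV : finrank F V = 2 * d)
    (hW : finrank F W = 2 * d) : ∃ φ : V ≃ₗ[F] W, ∀ u v, B' (φ u) (φ v) = B u v := by
  have key : ∀ {U : Type _} [AddCommGroup U] [Module F U] (C : LinearMap.BilinForm F U), C.IsAlt →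
      Splits C 1 (fun _ _ => True) := fun {U} _ _ C hC =>
    ⟨fun e f _ => ⟨Submodule.subset_span (by simp), Submodule.subset_span (by simp)⟩, fun X hX _ hn => by
      obtain ⟨e, he, he0⟩ := Submodule.exists_mem_ne_zero_of_ne_bot hX
      obtain ⟨f, hf, hef⟩ : ∃ f ∈ X, C e f ≠ 0 := by
        by_contra hh
        push Not at hh
        exact he0 (hn e he hh)
      exact ⟨e, he, (C e f)⁻¹ • f, X.smul_mem _ hf, by rw [map_smul, smul_eq_mul, inv_mul_cancel₀ hef], trivial⟩⟩
  obtain ⟨e, f, hb, -⟩ := exists_frame hA hB (T := 1) (μ := 1) (z := 1) (fun u v => (one_mul _).symm)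
    (fun v => (one_smul _ _).symm) one_ne_zero (key B hA) hV
  have key' : Splits B' 1 (fun _ _ => True) :=
    ⟨fun e f _ => ⟨Submodule.subset_span (by simp), Submodule.subset_span (by simp)⟩, fun X hX _ hn => by
      obtain ⟨e, he, he0⟩ := Submodule.exists_mem_ne_zero_of_ne_bot hX
      obtain ⟨f, hf, hef⟩ : ∃ f ∈ X, B' e f ≠ 0 := by
        by_contra hh
        push Not at hh
        exact he0 (hn e he hh)
      exact ⟨e, he, (B' e f)⁻¹ • f, X.smul_mem _ hf, by rw [map_smul, smul_eq_mul, inv_mul_cancel₀ hef], trivial⟩⟩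
  obtain ⟨e', f', hb', -⟩ := exists_frame hA' hB' (T := 1) (μ := 1) (z := 1) (fun u v => (one_mul _).symm)
    (fun v => (one_smul _ _).symm) one_ne_zero key' hW
  let φ := (hb.basis hA hV).equiv (hb'.basis hA' hW) (Equiv.refl _)
  refine ⟨φ, fun u v => ?_⟩
  have he : ∀ i, φ (e i) = e' i := fun i => by
    have := (hb.basis hA hV).equiv_apply (Sum.inl i) (hb'.basis hA' hW) (Equiv.refl _)
    simpa [φ, Frame.basis_apply] using this
  have hf : ∀ i, φ (f i) = f' i := fun i => by
    have := (hb.basis hA hV).equiv_apply (Sum.inr i) (hb'.basis hA' hW) (Equiv.refl _)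
    simpa [φ, Frame.basis_apply] using this
  obtain ⟨a, b, rfl⟩ := hb.exists_coord hA hV u
  obtain ⟨a', b', rfl⟩ := hb.exists_coord hA hV v
  have hg : ∀ c c' : Fin d → F, φ (∑ i, c i • e i + ∑ i, c' i • f i) = ∑ i, c i • e' i + ∑ i, c' i • f' i :=
    fun c c' => by simp only [map_add, map_sum, map_smul, he, hf]
  rw [hg, hg, hb.pair hA]
  exact hb'.pair hA' a b a' b'

variable [Fintype F] {p : ℕ} [Fact p.Prime] [CharP F p]

/-- A fixed point free symplectic map of order `r`. -/
theorem exists_fpf {r : ℕ} [Fact r.Prime] (hrp : r ≠ p) (hr2 : r ≠ 2) {d : ℕ} (hd : 1 ≤ d)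
    (hdvd : r ∣ (Fintype.card F ^ d) ^ 2 - 1) :
    ∃ g : (Fin d ⊕ Fin d → F) ≃ₗ[F] (Fin d ⊕ Fin d → F), g ∈ Alt.isoGroup (sympB d F) ∧ g ^ r = 1 ∧
      ∀ v, g v = v → v = 0 := by
  classical
  have : NeZero d := ⟨by omega⟩
  let K := FiniteField.Extension F p d
  have : Fintype K := Fintype.ofFinite K
  have : CharP K p := charP_of_injective_algebraMap (algebraMap F K).injective p
  have hK : Fintype.card K = Fintype.card F ^ d := by
    rw [← Nat.card_eq_fintype_card, FiniteField.natCard_extension, Nat.card_eq_fintype_card]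
  have hdvd' : r ∣ Nat.card (Matrix.SpecialLinearGroup (Fin 2) K) := by
    rw [Classical.card_sl2, hK]
    exact Dvd.dvd.mul_left hdvd _
  obtain ⟨A, hA⟩ := exists_prime_orderOf_dvd_card' r hdvd'
  have hfix : ∀ x : Fin 2 → K, (A : Matrix (Fin 2) (Fin 2) K) *ᵥ x = x → x = 0 := by
    intro x hx
    by_contra hx0
    have hdet : ((A : Matrix (Fin 2) (Fin 2) K) - 1).det = 0 :=
      Matrix.exists_mulVec_eq_zero_iff.1 ⟨x, hx0, by rw [Matrix.sub_mulVec, hx, Matrix.one_mulVec, sub_self]⟩
    have h1 := A.det_coe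
    rw [Matrix.det_fin_two] at h1 hdet
    simp only [Matrix.sub_apply, Matrix.one_apply_eq, Matrix.one_apply_ne (show (0 : Fin 2) ≠ 1 by decide),
      Matrix.one_apply_ne (show (1 : Fin 2) ≠ 0 by decide), sub_zero] at hdet
    have htr : (A : Matrix (Fin 2) (Fin 2) K) 0 0 + (A : Matrix (Fin 2) (Fin 2) K) 1 1 = 2 := by
      linear_combination -hdet + h1
    set N := (A : Matrix (Fin 2) (Fin 2) K) - 1 with hN
    have hN2 : N ^ 2 = 0 := by
      rw [hN, pow_two]
      ext i j
      fin_cases i <;> fin_cases j <;> simp [Matrix.mul_apply, Fin.sum_univ_two]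
      · linear_combination (A : Matrix (Fin 2) (Fin 2) K) 0 0 * htr - h1
      · linear_combination (A : Matrix (Fin 2) (Fin 2) K) 0 1 * htr
      · linear_combination (A : Matrix (Fin 2) (Fin 2) K) 1 0 * htr
      · linear_combination (A : Matrix (Fin 2) (Fin 2) K) 1 1 * htr - h1
    have hp : A ^ p = 1 := by
      refine Subtype.ext ?_
      rw [Matrix.SpecialLinearGroup.coe_pow, Matrix.SpecialLinearGroup.coe_one,
        show (A : Matrix (Fin 2) (Fin 2) K) = 1 + N by rw [hN]; abel,
        add_pow_char_of_commute p (h := Commute.one_left _), one_pow,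
        pow_eq_zero_of_le (Fact.out : p.Prime).two_le hN2, add_zero]
    have := orderOf_dvd_of_pow_eq_one hp
    rw [hA] at this
    exact hrp ((Nat.prime_dvd_prime_iff_eq (Fact.out : r.Prime) (Fact.out : p.Prime)).1 this)
  let B : LinearMap.BilinForm F (Fin 2 → K) := LinearMap.mk₂ F
    (fun x y => Algebra.trace F K (x 0 * y 1 - x 1 * y 0))
    (fun x y w => by simp [add_mul]; abel)
    (fun c x y => by simp [Algebra.smul_mul_assoc, mul_sub])
    (fun x y w => by simp [mul_add]; abel)
    (fun c x y => by simp [Algebra.mul_smul_comm, mul_sub])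
  have hB : ∀ x y, B x y = Algebra.trace F K (x 0 * y 1 - x 1 * y 0) := fun x y => rfl
  have hAlt : B.IsAlt := fun x => by rw [hB, mul_comm, sub_self, map_zero]
  have hN : B.Nondegenerate := (hAlt.isRefl.nondegenerate_iff_separatingLeft).2 fun x hx => by
    have h0 : x 0 = 0 := (traceForm_nondegenerate F K).1 (x 0) fun y => by
      simpa [hB, Algebra.traceForm_apply] using hx ![0, y]
    have h1 : x 1 = 0 := (traceForm_nondegenerate F K).1 (x 1) fun y => by
      simpa [hB, Algebra.traceForm_apply] using hx ![y, 0]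
    funext i
    fin_cases i
    · exact h0
    · exact h1
  have hV : finrank F (Fin 2 → K) = 2 * d := by
    rw [Module.finrank_pi_fintype, Fin.sum_univ_two, FiniteField.finrank_extension]
    omega
  obtain ⟨φ, hφ⟩ := exists_iso hAlt hN sympB_isAlt sympB_nondeg hV finrank_symp
  let a : (Fin 2 → K) ≃ₗ[F] (Fin 2 → K) := ((Matrix.SpecialLinearGroup.toLin' A).restrictScalars F)
  have ha : ∀ x, a x = (A : Matrix (Fin 2) (Fin 2) K) *ᵥ x := fun x => rfl
  let g : (Fin d ⊕ Fin d → F) ≃ₗ[F] (Fin d ⊕ Fin d → F) := (φ.symm.trans a).trans φ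
  have hg : g ∈ Alt.isoGroup (sympB d F) := fun x y => by
    obtain ⟨x, rfl⟩ := φ.surjective x
    obtain ⟨y, rfl⟩ := φ.surjective y
    show sympB d F (φ (a (φ.symm (φ x)))) (φ (a (φ.symm (φ y)))) = sympB d F (φ x) (φ y)
    rw [LinearEquiv.symm_apply_apply, LinearEquiv.symm_apply_apply, hφ, hφ, hB, hB, ha, ha]
    congr 1
    have h1 := A.det_coe
    rw [Matrix.det_fin_two] at h1
    simp only [Matrix.mulVec, dotProduct, Fin.sum_univ_two]
    linear_combination (x 0 * y 1 - x 1 * y 0) * h1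
  have hpow : ∀ (n : ℕ) (x : Fin 2 → K), (g ^ n) (φ x) = φ (((A ^ n : Matrix.SpecialLinearGroup (Fin 2) K) :
      Matrix (Fin 2) (Fin 2) K) *ᵥ x) := by
    intro n
    induction n with
    | zero => intro x; simp
    | succ n ih =>
      intro x
      rw [pow_succ', LinearEquiv.mul_apply, ih, pow_succ', Matrix.SpecialLinearGroup.coe_mul, ← Matrix.mulVec_mulVec]
      show φ (a (φ.symm (φ _))) = _
      rw [LinearEquiv.symm_apply_apply, ha]
  refine ⟨g, hg, LinearEquiv.ext fun v => ?_, fun v hv => ?_⟩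
  · obtain ⟨x, rfl⟩ := φ.surjective v
    show (g ^ r) (φ x) = φ x
    rw [hpow, ← hA, pow_orderOf_eq_one, Matrix.SpecialLinearGroup.coe_one, Matrix.one_mulVec]
  · obtain ⟨x, rfl⟩ := φ.surjective v
    have := hpow 1 x
    rw [pow_one, pow_one, hv, φ.injective.eq_iff] at this
    rw [hfix x this.symm, map_zero]

section split

variable {j k : ℕ}

omit [Fintype F] [CharP F p] [Fact p.Prime]

/-- The orthogonal sum of two standard spaces. -/
noncomputable def splitE (j k : ℕ) (F : Type*) [Field F] :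
    (Fin (j + k) ⊕ Fin (j + k) → F) ≃ₗ[F] (Fin j ⊕ Fin j → F) × (Fin k ⊕ Fin k → F) where
  toFun v := (fun i => v (Sum.map (Fin.castAdd k) (Fin.castAdd k) i), fun i => v (Sum.map (Fin.natAdd j) (Fin.natAdd j) i))
  invFun w := Sum.elim (Fin.append (fun i => w.1 (Sum.inl i)) fun i => w.2 (Sum.inl i))
    (Fin.append (fun i => w.1 (Sum.inr i)) fun i => w.2 (Sum.inr i))
  map_add' _ _ := rfl
  map_smul' _ _ := rfl
  left_inv v := by
    funext i
    rcases i with i | i <;> refine Fin.addCases (fun i => ?_) (fun i => ?_) i <;> simp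
  right_inv w := by
    refine Prod.ext (funext fun i => ?_) (funext fun i => ?_) <;> rcases i with i | i <;> simp

theorem splitE_sympB (u v : Fin (j + k) ⊕ Fin (j + k) → F) :
    sympB (j + k) F u v = sympB j F (splitE j k F u).1 (splitE j k F v).1 +
      sympB k F (splitE j k F u).2 (splitE j k F v).2 := by
  rw [sympB_eq_sum, sympB_eq_sum, sympB_eq_sum, Fin.sum_univ_add]
  rfl

end split

/-- The derangement of order `r ≠ p`. -/
theorem exists_no_skew {r : ℕ} [Fact r.Prime] (hrp : r ≠ p) (hr2 : r ≠ 2) {j k : ℕ} (hj : 1 ≤ j)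
    (hdvd : r ∣ (Fintype.card F ^ j) ^ 2 - 1) {L : Type*} [Field L] [Algebra F L] (hL : finrank F L = 2)
    {t : F} (ht : ¬ IsSquare t) {δ : L} (hδ : δ * δ = algebraMap F L t) (h2 : (2 : F) ≠ 0)
    (hnd : ¬ r ∣ ∏ i ∈ Finset.range j, nrm (Fintype.card F) (j - i)) :
    ∃ x : (Fin (j + k) ⊕ Fin (j + k) → F) ≃ₗ[F] (Fin (j + k) ⊕ Fin (j + k) → F),
      x ∈ Alt.isoGroup (sympB (j + k) F) ∧ x ^ r = 1 ∧ x ≠ 1 ∧
      ∀ J, IsSkew (sympB (j + k) F) J t → ¬ ∀ v, x (J v) = J (x v) := by
  classical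
  obtain ⟨g, hg, hgr, hfix⟩ := exists_fpf (p := p) hrp hr2 hj hdvd
  let ψ := splitE j k F
  let x := (ψ.trans (g.prodCongr (LinearEquiv.refl F (Fin k ⊕ Fin k → F)))).trans ψ.symm
  have hx : ∀ v, ψ (x v) = (g (ψ v).1, (ψ v).2) := fun v => by simp [x]
  have hxn : ∀ (n : ℕ) v, ψ ((x ^ n) v) = ((g ^ n) (ψ v).1, (ψ v).2) := by
    intro n
    induction n with
    | zero => intro v; rfl
    | succ n ih => intro v; rw [pow_succ', LinearEquiv.mul_apply, hx, ih, pow_succ', LinearEquiv.mul_apply]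
  have hxB : x ∈ Alt.isoGroup (sympB (j + k) F) := fun u v => by
    rw [splitE_sympB, splitE_sympB u v, hx, hx]
    congr 1
    exact hg _ _
  refine ⟨x, hxB, LinearEquiv.ext fun v => ψ.injective ?_, fun e => ?_, fun J hJ hc => ?_⟩
  · rw [hxn, hgr]
    rfl
  · have hne := nontrivial_symp (F := F) hj
    obtain ⟨w, hw⟩ := exists_ne (0 : Fin j ⊕ Fin j → F)
    have h1 := hx (ψ.symm (w, 0))
    rw [e] at h1
    simp at h1
    exact hw (hfix w h1.symm)
  · have hsurj : Function.Surjective (g.toLinearMap - LinearMap.id : Module.End F (Fin j ⊕ Fin j → F)) :=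
      LinearMap.injective_iff_surjective.1 ((injective_iff_map_eq_zero _).2 fun w hw => hfix w (sub_eq_zero.1 hw))
    let J1 : Module.End F (Fin j ⊕ Fin j → F) :=
      (LinearMap.fst F _ _).comp (ψ.toLinearMap.comp (J.comp (ψ.symm.toLinearMap.comp (LinearMap.inl F _ _))))
    have hJ1 : ∀ w, ψ (J (ψ.symm (w, 0))) = (J1 w, 0) := by
      intro w
      refine Prod.ext rfl ?_
      obtain ⟨w', rfl⟩ := hsurj w
      have e : ψ.symm ((g.toLinearMap - LinearMap.id : Module.End F (Fin j ⊕ Fin j → F)) w', 0) =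
          x (ψ.symm (w', 0)) - ψ.symm (w', 0) := ψ.injective (by
        rw [map_sub, hx, LinearEquiv.apply_symm_apply, LinearEquiv.apply_symm_apply]
        simp)
      rw [e, map_sub, ← hc, map_sub, hx]
      simp
    have hrestr : ∀ w w', sympB (j + k) F (ψ.symm (w, 0)) (ψ.symm (w', 0)) = sympB j F w w' := fun w w' => by
      rw [splitE_sympB]
      simp [ψ]
    have hskew : IsSkew (sympB j F) J1 t := by
      refine ⟨fun u v => ?_, fun v => ?_⟩
      · have := hJ.skew (ψ.symm (u, 0)) (ψ.symm (v, 0))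
        rw [← ψ.symm_apply_apply (J (ψ.symm (u, 0))), ← ψ.symm_apply_apply (J (ψ.symm (v, 0))), hJ1, hJ1, hrestr,
          hrestr] at this
        exact this
      · have := congrArg ψ (hJ.sq (ψ.symm (v, 0)))
        rw [← ψ.symm_apply_apply (J (ψ.symm (v, 0))), hJ1, hJ1, map_smul, LinearEquiv.apply_symm_apply] at this
        exact (Prod.ext_iff.1 this).1
    have hgJ : ∀ w, g (J1 w) = J1 (g w) := fun w => by
      have := congrArg ψ (hc (ψ.symm (w, 0)))
      rw [hx, hJ1, show x (ψ.symm (w, 0)) = ψ.symm (g w, 0) from ψ.injective (by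
        rw [hx, LinearEquiv.apply_symm_apply, LinearEquiv.apply_symm_apply]), hJ1] at this
      exact (Prod.ext_iff.1 this).1
    let C : Subgroup ((Fin j ⊕ Fin j → F) ≃ₗ[F] (Fin j ⊕ Fin j → F)) :=
      { carrier := {y | (∀ u v, sympB j F (y u) (y v) = sympB j F u v) ∧ ∀ v, y (J1 v) = J1 (y v)}
        mul_mem' := fun {a b} ha hb => ⟨fun u v => by rw [LinearEquiv.mul_apply, LinearEquiv.mul_apply, ha.1, hb.1],
          fun v => by rw [LinearEquiv.mul_apply, LinearEquiv.mul_apply, hb.2, ha.2]⟩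
        one_mem' := ⟨fun _ _ => rfl, fun _ => rfl⟩
        inv_mem' := fun {a} ha => ⟨fun u v => by
            conv_rhs => rw [← a.apply_symm_apply u, ← a.apply_symm_apply v, ha.1]
            rfl,
          fun v => a.injective (by
            show a (a.symm (J1 v)) = a (J1 (a.symm v))
            rw [ha.2, LinearEquiv.apply_symm_apply, LinearEquiv.apply_symm_apply])⟩ }
    have hcard : Nat.card C = ∏ i ∈ Finset.range j, nrm (Fintype.card F) (j - i) :=
      card_centJ hL h2 sympB_isAlt sympB_nondeg hskew ht hδ finrank_symp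
    refine hnd (hcard ▸ ?_)
    have hne := nontrivial_symp (F := F) hj
    obtain ⟨w, hw⟩ := exists_ne (0 : Fin j ⊕ Fin j → F)
    have hgC : g ∈ C := ⟨hg, hgJ⟩
    have ho : orderOf (⟨g, hgC⟩ : C) = r := by
      rw [Subgroup.orderOf_mk]
      exact orderOf_eq_prime hgr fun e => hw (hfix w (by rw [e]; rfl))
    exact ho ▸ orderOf_dvd_natCard _

/-- The derangement of order `p`: a transvection. -/
theorem exists_transvection {d : ℕ} (hd : 1 ≤ d) {t : F} (ht : ¬ IsSquare t) :
    ∃ x : (Fin d ⊕ Fin d → F) ≃ₗ[F] (Fin d ⊕ Fin d → F),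
      x ∈ Alt.isoGroup (sympB d F) ∧ x ^ p = 1 ∧ x ≠ 1 ∧
      ∀ J, IsSkew (sympB d F) J t → ¬ ∀ v, x (J v) = J (x v) := by
  have hne := nontrivial_symp (F := F) hd
  obtain ⟨u, hu⟩ := exists_ne (0 : Fin d ⊕ Fin d → F)
  obtain ⟨w, hw⟩ : ∃ w, sympB d F u w ≠ 0 := by
    by_contra h
    push Not at h
    exact hu (sympB_nondeg.1 u h)
  have huu : sympB d F u u = 0 := sympB_isAlt u
  let T : Module.End F (Fin d ⊕ Fin d → F) := LinearMap.id + (sympB d F u).smulRight u
  let T' : Module.End F (Fin d ⊕ Fin d → F) := LinearMap.id - (sympB d F u).smulRight u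
  let x : (Fin d ⊕ Fin d → F) ≃ₗ[F] (Fin d ⊕ Fin d → F) := LinearEquiv.ofLinear T T'
    (LinearMap.ext fun v => by simp [T, T', huu, sub_smul])
    (LinearMap.ext fun v => by simp [T, T', huu, add_smul])
  have hx : ∀ v, x v = v + sympB d F u v • u := fun v => rfl
  have hxn : ∀ (n : ℕ) v, (x ^ n) v = v + ((n : F) * sympB d F u v) • u := by
    intro n
    induction n with
    | zero => intro v; simp
    | succ n ih =>
      intro v
      rw [pow_succ', LinearEquiv.mul_apply, ih, hx, map_add, map_smul, huu, smul_zero, add_zero, add_assoc, ← add_smul,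
        Nat.cast_succ, add_mul, one_mul]
  refine ⟨x, fun a b => ?_, LinearEquiv.ext fun v => ?_, fun e => ?_, fun J hJ hc => ?_⟩
  · rw [hx, hx]
    simp only [map_add, map_smul, LinearMap.add_apply, LinearMap.smul_apply, smul_eq_mul, huu, mul_zero, add_zero]
    rw [Alt.neg' sympB_isAlt u a]
    ring
  · rw [hxn, CharP.cast_eq_zero F p, zero_mul, zero_smul, add_zero]
    rfl
  · have := LinearEquiv.congr_fun e w
    rw [hx] at this
    simp [hw, hu] at this
  · have h := hc w
    rw [hx, hx, map_add, map_smul, add_right_inj] at h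
    have hJu : J u = ((sympB d F u w)⁻¹ * sympB d F u (J w)) • u := by
      rw [mul_smul, h, smul_smul, inv_mul_cancel₀ hw, one_smul]
    set c := (sympB d F u w)⁻¹ * sympB d F u (J w)
    have h3 := hJ.sq u
    rw [hJu, map_smul, hJu, smul_smul] at h3
    exact ht ⟨c, (smul_left_injective F hu h3).symm⟩

end Cfsg.Agent.SkewStruct
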