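import Mathlib
import Cfsg.Agent.SkewStruct.SpPrime

/-!
Extension fields acting by self-adjoint maps on a symplectic space: the order of the centraliser and isometries with
no conjugate normalising the field.
-/

set_option autoImplicit false
set_option linter.unusedSectionVars false
set_option linter.style.haveILetI false

namespace Cfsg.Agent.SkewStruct.Ext

open Module Cfsg.Agent.Classical

variable {F K V : Type*} [Field F] [Field K] [Algebra F K] [FiniteDimensional F K] [AddCommGroup V] [Module F V]
  [Module K V] [IsScalarTower F K V] [FiniteDimensional F V]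

/-- The hypotheses on the field. -/
structure IsExt (B : LinearMap.BilinForm F V) (K : Type*) [Field K] [Algebra F K] [Module K V] : Prop where
  sa : ∀ (c : K) (x z : V), B (c • x) z = B x (c • z)
  ha : ∀ (c : K) (x : V), B (c • x) x = 0

theorem IsExt.isAlt {B : LinearMap.BilinForm F V} (hK : IsExt B K) : B.IsAlt := fun x => by
  simpa using hK.ha 1 x

theorem exists_sep : ∃ l : K →ₗ[F] F, (∀ a b : K, (∀ c, l (c * a) = l (c * b)) → a = b) ∧
    ∀ f : K →ₗ[F] F, ∃ κ : K, ∀ c, l (c * κ) = f c := by
  let b := Module.finBasis F K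
  let l := b.coord ⟨0, Module.finrank_pos⟩
  have hl : l (b ⟨0, Module.finrank_pos⟩) = 1 := by simp [l]
  have hsep : ∀ a b : K, (∀ c, l (c * a) = l (c * b)) → a = b := fun x y h => by
    by_contra hne
    have h1 := h (b ⟨0, Module.finrank_pos⟩ * (x - y)⁻¹)
    rw [← sub_eq_zero, ← map_sub, ← mul_sub, inv_mul_cancel_right₀ (sub_ne_zero.2 hne), hl] at h1
    exact one_ne_zero h1
  refine ⟨l, hsep, fun f => ?_⟩
  let T : K →ₗ[F] Dual F K := ((LinearMap.mul F K).compr₂ l).flip
  have hinj : Function.Injective T := fun a b h => hsep a b fun c => LinearMap.congr_fun h c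
  obtain ⟨κ, hκ⟩ := (LinearMap.injective_iff_surjective_of_finrank_eq_finrank Subspace.dual_finrank_eq.symm).1 hinj f
  exact ⟨κ, fun c => LinearMap.congr_fun hκ c⟩

/-- The alternating form over `K` behind `B`. -/
theorem exists_bil {B : LinearMap.BilinForm F V} (hK : IsExt B K) (hB : B.Nondegenerate) :
    ∃ (l : K →ₗ[F] F) (b : LinearMap.BilinForm K V), (∀ a b : K, (∀ c, l (c * a) = l (c * b)) → a = b) ∧
      (∀ (c : K) (x z : V), l (c * b x z) = B (c • x) z) ∧ b.IsAlt ∧ b.Nondegenerate := by
  obtain ⟨l, hsep, hrep⟩ := exists_sep (F := F) (K := K)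
  choose p hp using fun x z : V => hrep ((B.flip z).comp ((LinearMap.toSpanSingleton K V x).restrictScalars F))
  have hp' : ∀ x z c, l (c * p x z) = B (c • x) z := hp
  let b : LinearMap.BilinForm K V := LinearMap.mk₂ K p
    (fun x x' z => hsep _ _ fun c => by rw [mul_add, map_add, hp', hp', hp', smul_add, map_add, LinearMap.add_apply])
    (fun a x z => hsep _ _ fun c => by rw [smul_eq_mul, ← mul_assoc, hp', hp', smul_smul])
    (fun x z z' => hsep _ _ fun c => by rw [mul_add, map_add, hp', hp', hp', map_add])
    (fun a x z => hsep _ _ fun c => by rw [smul_eq_mul, ← mul_assoc, hp', hp', ← hK.sa a (c • x) z, smul_smul, mul_comm a c])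
  have halt : b.IsAlt := fun x => hsep _ _ fun c => by rw [mul_zero, map_zero]; exact (hp' x x c).trans (hK.ha c x)
  refine ⟨l, b, hsep, fun c x z => hp' x z c, halt, (halt.isRefl.nondegenerate_iff_separatingLeft).2 fun x hx => ?_⟩
  refine hB.1 x fun z => ?_
  have := hp' x z 1
  rw [one_smul, one_mul, show p x z = 0 from hx z, map_zero] at this
  exact this.symm

/-- A space carrying such a field structure has dimension a multiple of twice the degree. -/
theorem two_mul_dvd {B : LinearMap.BilinForm F V} (hK : IsExt B K) (hB : B.Nondegenerate) :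
    2 * finrank F K ∣ finrank F V := by
  haveI : Module.Finite K V := Module.Finite.right F K V
  obtain ⟨l, b, -, -, halt, hb⟩ := exists_bil hK hB
  obtain ⟨k, e, f, -, hk⟩ := Alt.exists_sympBasis halt ⊤ (Alt.ndon_top hb)
  rw [finrank_top] at hk
  exact ⟨k, by rw [← Module.finrank_mul_finrank F K V, hk]; ring⟩

/-- The isometries linear over `K`. -/
def linIso (B : LinearMap.BilinForm F V) (K : Type*) [Field K] [Module K V] : Subgroup (V ≃ₗ[F] V) where
  carrier := {g | (∀ u v, B (g u) (g v) = B u v) ∧ ∀ (c : K) v, g (c • v) = c • g v}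
  mul_mem' {a b} ha hb := ⟨fun u v => by rw [LinearEquiv.mul_apply, LinearEquiv.mul_apply, ha.1, hb.1],
    fun c v => by rw [LinearEquiv.mul_apply, LinearEquiv.mul_apply, hb.2, ha.2]⟩
  one_mem' := ⟨fun _ _ => rfl, fun _ _ => rfl⟩
  inv_mem' {a} ha := ⟨fun u v => by
      conv_rhs => rw [← a.apply_symm_apply u, ← a.apply_symm_apply v, ha.1]
      rfl,
    fun c v => a.injective (by
      show a (a.symm (c • v)) = a (c • a.symm v)
      rw [ha.2, LinearEquiv.apply_symm_apply, LinearEquiv.apply_symm_apply])⟩

theorem card_linIso [Fintype F] {B : LinearMap.BilinForm F V} (hK : IsExt B K) (hB : B.Nondegenerate) {m : ℕ}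
    (hm : finrank F V = 2 * (finrank F K * m)) :
    Nat.card (linIso B K) = (Fintype.card F ^ finrank F K) ^ (m ^ 2) *
      ∏ i ∈ Finset.range m, ((Fintype.card F ^ finrank F K) ^ (2 * (i + 1)) - 1) := by
  haveI : Module.Finite K V := Module.Finite.right F K V
  haveI : Finite K := Module.finite_of_finite F
  haveI := Fintype.ofFinite K
  obtain ⟨l, b, hsep, hlb, halt, hb⟩ := exists_bil hK hB
  have hcard : Fintype.card K = Fintype.card F ^ finrank F K := Module.card_eq_pow_finrank
  have hdim : finrank K V = 2 * m := by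
    have := Module.finrank_mul_finrank F K V
    rw [hm] at this
    exact Nat.eq_of_mul_eq_mul_left Module.finrank_pos (this.trans (by ring))
  rw [← hcard, ← Alt.card_isoGroup halt hb m hdim]
  have hl1 : ∀ x z, l (b x z) = B x z := fun x z => by simpa using hlb 1 x z
  refine Nat.card_eq_of_bijective
    (fun g => (⟨{ g.1 with map_smul' := g.2.2 }, fun u v => hsep _ _ fun c => by
      show l (c * b (g.1 u) (g.1 v)) = l (c * b u v)
      rw [hlb, hlb, ← g.2.2, g.2.1]⟩ : Alt.isoGroup b)) ⟨fun g g' h => ?_, fun h => ?_⟩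
  · exact Subtype.ext (LinearEquiv.ext fun v => LinearEquiv.congr_fun (congrArg Subtype.val h) v)
  · exact ⟨⟨h.1.restrictScalars F, fun u v => (hl1 _ _).symm.trans ((congrArg l (h.2 u v)).trans (hl1 u v)),
      fun c v => map_smul h.1 c v⟩, rfl⟩

/-- The action on scalars of an odd prime order semilinear map. -/
theorem linear_of_order [Finite K] {r : ℕ} (hr : r.Prime) (hk : (finrank F K).Prime) (hrk : r ≠ finrank F K) [Nontrivial V]
    {y : V ≃ₗ[F] V} (hyr : y ^ r = 1) {f : K → K} (hf : ∀ c v, y (c • v) = f c • y v) (c : K) : f c = c := by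
  obtain ⟨v, hv⟩ := exists_ne (0 : V)
  have hyv : y v ≠ 0 := fun h => hv (y.injective (h.trans (map_zero y).symm))
  have hinj : ∀ a b : K, a • y v = b • y v → a = b := fun a b => fun h => smul_left_injective K hyv h
  let φ : K →ₐ[F] K :=
    { toFun := f
      map_one' := hinj _ _ (by rw [← hf, one_smul, one_smul])
      map_mul' := fun a b => hinj _ _ (by rw [← hf, mul_smul, hf, hf, mul_smul])
      map_zero' := hinj _ _ (by rw [← hf, zero_smul, zero_smul, map_zero])
      map_add' := fun a b => hinj _ _ (by rw [← hf, add_smul, map_add, hf, hf, add_smul])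
      commutes' := fun a => hinj _ _ (by
        show f (algebraMap F K a) • y v = algebraMap F K a • y v
        rw [← hf, algebraMap_smul, algebraMap_smul, map_smul]) }
  have hn : ∀ (n : ℕ) a w, (y ^ n) (a • w) = (φ ^ n) a • (y ^ n) w := by
    intro n
    induction n with
    | zero => intro a w; simp
    | succ n ih => intro a w; rw [pow_succ', LinearEquiv.mul_apply, ih, hf, pow_succ', LinearEquiv.mul_apply]; rfl
  have hφr : φ ^ r = 1 := AlgHom.ext fun a => by
    have := hn r a v
    rw [hyr] at this
    exact (smul_left_injective K hv this).symm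
  let e : Gal(K/F) := AlgEquiv.ofBijective φ (Finite.injective_iff_bijective.1 φ.toRingHom.injective)
  have her : e ^ r = 1 := by
    refine AlgEquiv.ext fun a => ?_
    have hp : ∀ (n : ℕ) a, (e ^ n) a = (φ ^ n) a := by
      intro n
      induction n with
      | zero => intro a; rfl
      | succ n ih => intro a; rw [pow_succ', pow_succ', AlgEquiv.mul_apply, ih]; rfl
    rw [hp, hφr]
    rfl
  haveI : FiniteDimensional F K := Module.finite_of_finrank_pos hk.pos
  haveI : Finite F := Finite.of_injective _ (algebraMap F K).injective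
  have h1 : orderOf e ∣ finrank F K := by
    rw [← IsGalois.card_aut_eq_finrank F K]
    exact orderOf_dvd_natCard e
  have h2 := orderOf_dvd_of_pow_eq_one her
  have he : e = 1 := orderOf_eq_one_iff.1 (Nat.eq_one_of_dvd_coprimes ((Nat.coprime_primes hr hk).2 hrk) h2 h1)
  exact AlgEquiv.congr_fun he c

/-- The obstruction. -/
theorem obstruction [Finite K] {B : LinearMap.BilinForm F V} (hK : IsExt B K) {y : V ≃ₗ[F] V} {f : K → K}
    (hf : ∀ c v, y (c • v) = f c • y v) {r : ℕ} (hr : r.Prime) (hk : (finrank F K).Prime) (hyr : y ^ r = 1) (hy1 : y ≠ 1)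
    (hcrit : r ≠ finrank F K ∨ 2 * finrank F (LinearMap.range (y.toLinearMap - LinearMap.id)) < finrank F V) :
    (∀ (c : K) v, y (c • v) = c • y v) ∧
      finrank F K ∣ finrank F (LinearMap.range (y.toLinearMap - LinearMap.id)) ∧
      ((∀ u ∈ LinearMap.range (y.toLinearMap - LinearMap.id),
          (∀ v ∈ LinearMap.range (y.toLinearMap - LinearMap.id), B u v = 0) → u = 0) →
        2 * finrank F K ∣ finrank F (LinearMap.range (y.toLinearMap - LinearMap.id))) := by
  haveI : Nontrivial V := by
    by_contra h
    rw [not_nontrivial_iff_subsingleton] at h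
    exact hy1 (LinearEquiv.ext fun v => Subsingleton.elim _ _)
  have hlin : ∀ (c : K) v, y (c • v) = c • y v := by
    by_cases hrk : r = finrank F K
    · have hlt := hcrit.resolve_left (not_not.2 hrk)
      intro c v
      rcases eq_or_ne c 0 with rfl | hc
      · simp
      rw [hf]
      congr 1
      let S : V ≃ₗ[F] V := (LinearEquiv.smulOfUnit (Units.mk0 c hc) : V ≃ₗ[K] V).restrictScalars F
      have hS : ∀ w, S w = c • w := fun w => rfl
      set W := LinearMap.ker (y.toLinearMap - LinearMap.id) with hW
      have hWv : ∀ w ∈ W, y w = w := fun w hw => sub_eq_zero.1 hw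
      obtain ⟨w, hw, hw0⟩ := Submodule.exists_mem_ne_zero_of_ne_bot (p := W ⊓ W.comap S.toLinearMap) (by
        intro e
        have h1 := Submodule.finrank_sup_add_finrank_inf_eq W (W.comap S.toLinearMap)
        have h2 := Submodule.finrank_le (W ⊔ W.comap S.toLinearMap)
        have h3 := LinearMap.finrank_range_add_finrank_ker (y.toLinearMap - LinearMap.id)
        rw [← hW] at h3
        rw [e, finrank_bot, Submodule.comap_equiv_eq_map_symm, LinearEquiv.finrank_map_eq] at h1
        rw [Submodule.comap_equiv_eq_map_symm] at h2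
        omega)
      have h := hWv _ (show S w ∈ W from hw.2)
      rw [hS, hf, hWv w hw.1] at h
      exact smul_left_injective K hw0 h
    · intro c v
      rw [hf, linear_of_order hr hk hrk hyr hf]
  let R : Submodule K V :=
    { toAddSubmonoid := (LinearMap.range (y.toLinearMap - LinearMap.id)).toAddSubmonoid
      smul_mem' := fun c v hv => by
        obtain ⟨w, rfl⟩ : v ∈ LinearMap.range (y.toLinearMap - LinearMap.id) := hv
        exact ⟨c • w, by simp [hlin, smul_sub]⟩ }
  have hR : ∀ v, v ∈ R ↔ v ∈ LinearMap.range (y.toLinearMap - LinearMap.id) := fun _ => Iff.rfl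
  have e : R.restrictScalars F = LinearMap.range (y.toLinearMap - LinearMap.id) := Submodule.ext hR
  have hdim : finrank F (LinearMap.range (y.toLinearMap - LinearMap.id)) = finrank F R := (LinearEquiv.ofEq _ _ e.symm).finrank_eq
  refine ⟨hlin, ⟨finrank K R, hdim.trans (Module.finrank_mul_finrank F K R).symm⟩, fun hnd => ?_⟩
  let B' : LinearMap.BilinForm F R := B.comp (R.subtype.restrictScalars F) (R.subtype.restrictScalars F)
  have hK' : IsExt B' K := ⟨fun c x z => hK.sa c x.1 z.1, fun c x => hK.ha c x.1⟩
  have hB' : B'.Nondegenerate := (hK'.isAlt.isRefl.nondegenerate_iff_separatingLeft).2 fun u hu =>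
    Subtype.ext (hnd u.1 u.2 fun v hv => hu ⟨v, hv⟩)
  rw [hdim]
  exact two_mul_dvd hK' hB'

end Cfsg.Agent.SkewStruct.Ext
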